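import Mathlib.Topology.Sheaves.Functors
import Mathlib.Topology.Sheaves.SheafOfFunctions
import Mathlib.Topology.Sheaves.Forget
import Mathlib.CategoryTheory.Sites.DenseSubsite.SheafEquiv
import Mathlib.CategoryTheory.Sites.Equivalence
import Mathlib.Algebra.Category.Grp.Limits
import Mathlib.Algebra.Category.Grp.Colimits
import Mathlib.Algebra.Category.Grp.FilteredColimits
import Mathlib.Order.Filter.Ultrafilter.Basic
import Mathlib.Data.ZMod.Basic

/-!
# Quasi-homeomorphisms and sheaves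
-/

set_option autoImplicit false
set_option backward.isDefEq.respectTransparency false
set_option backward.isDefEq.respectTransparency.types false
universe u

open CategoryTheory TopologicalSpace Opposite

namespace Groth.Agent.QHomeo5

variable {X₀ X : TopCat.{u}} (f : X₀ ⟶ X)

/-- The two-element group. -/
abbrev B : Type u := ULift.{u} (ZMod 2)

/-- Values of a function sheaf supported on `S`. -/
abbrev Val {Z : TopCat.{u}} (S : Set Z) (z : Z) : Type u := PLift (z ∈ S) → B.{u}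

theorem map_le_map_iff (h : Function.Bijective (fun U : Opens X => (Opens.map f).obj U)) {U V : Opens X}
    (hle : (Opens.map f).obj U ≤ (Opens.map f).obj V) : U ≤ V := by
  have : U ⊓ V = U := h.1 (by
    ext z
    exact ⟨fun hz => hz.1, fun hz => ⟨hz, hle hz⟩⟩)
  exact this ▸ inf_le_right

theorem isDenseSubsite (h : Function.Bijective (fun U : Opens X => (Opens.map f).obj U)) :
    (Opens.map f).IsDenseSubsite (Opens.grothendieckTopology X) (Opens.grothendieckTopology X₀) := by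
  haveI : (Opens.map f).Full :=
    ⟨fun {U V} g => ⟨homOfLE (map_le_map_iff f h g.le), Subsingleton.elim _ _⟩⟩
  haveI : (Opens.map f).Faithful := ⟨fun _ => Subsingleton.elim _ _⟩
  haveI : (Opens.map f).EssSurj := ⟨fun W => ⟨(h.2 W).choose, ⟨eqToIso (h.2 W).choose_spec⟩⟩⟩
  haveI : (Opens.map f).IsEquivalence := {}
  refine { functorPushforward_mem_iff := fun {U S} => ⟨fun hS => ?_, fun hS => ?_⟩ }
  · intro y hy
    let W : Opens X := sSup {V | ∃ g : V ⟶ U, S.arrows g}
    have hWU : U ≤ W := map_le_map_iff f h fun z hz => by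
      obtain ⟨T, a, ⟨V, g, k, hg, -⟩, hzT⟩ := hS z hz
      exact le_sSup (show V ∈ {V | ∃ g : V ⟶ U, S.arrows g} from ⟨g, hg⟩) (k.le hzT)
    obtain ⟨V, ⟨g, hg⟩, hyV⟩ := Opens.mem_sSup.1 (hWU hy)
    exact ⟨V, g, hg, hyV⟩
  · intro z hz
    obtain ⟨V, g, hg, hzV⟩ := hS (f z) hz
    exact ⟨(Opens.map f).obj V, (Opens.map f).map g, ⟨V, g, 𝟙 _, hg, by simp⟩, hzV⟩

section Limit

variable (𝒰 : Ultrafilter X₀)

theorem exists_limVal (a : X₀ → B.{u}) : ∃ c : B.{u}, ∀ᶠ z in (𝒰 : Filter X₀), a z = c := by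
  obtain ⟨c, hc⟩ := Ultrafilter.eq_pure_of_finite (𝒰.map a)
  refine ⟨c, ?_⟩
  have : ({c} : Set B.{u}) ∈ 𝒰.map a := by rw [hc]; exact rfl
  exact this

/-- The value of a function along an ultrafilter. -/
noncomputable def limVal (a : X₀ → B.{u}) : B.{u} := (exists_limVal 𝒰 a).choose

theorem limVal_spec (a : X₀ → B.{u}) : ∀ᶠ z in (𝒰 : Filter X₀), a z = limVal 𝒰 a :=
  (exists_limVal 𝒰 a).choose_spec

theorem limVal_eq {a : X₀ → B.{u}} {c : B.{u}} (h : ∀ᶠ z in (𝒰 : Filter X₀), a z = c) : limVal 𝒰 a = c := by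
  obtain ⟨z, hz, hz'⟩ := (h.and (limVal_spec 𝒰 a)).exists
  exact hz'.symm.trans hz

open Classical in
/-- Extension by zero. -/
noncomputable def ext0 {Z : TopCat.{u}} (S : Set Z) {U : Opens Z} (a : ∀ z : U, Val S z.1) (z : Z) : B.{u} :=
  if h : z ∈ U ∧ z ∈ S then a ⟨z, h.1⟩ ⟨h.2⟩ else 0

theorem ext0_eq {Z : TopCat.{u}} (S : Set Z) {U : Opens Z} (a : ∀ z : U, Val S z.1) {z : Z} (h1 : z ∈ U)
    (h2 : z ∈ S) : ext0 S a z = a ⟨z, h1⟩ ⟨h2⟩ := dif_pos ⟨h1, h2⟩

end Limit

theorem exists_ultrafilter {W : Opens X₀} {y : X}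
    (h : ∀ V : Opens X, y ∈ V → ∃ z, f z ∈ V ∧ z ∉ W) :
    ∃ 𝒰 : Ultrafilter X₀, ((W : Set X₀)ᶜ ∈ 𝒰) ∧ ∀ V : Opens X, y ∈ V → f ⁻¹' V ∈ 𝒰 := by
  haveI : (Filter.comap f (nhds y) ⊓ Filter.principal (W : Set X₀)ᶜ).NeBot := by
    rw [Filter.inf_principal_neBot_iff]
    intro s hs
    obtain ⟨t, ht, hts⟩ := Filter.mem_comap.1 hs
    obtain ⟨t', ht', ho, hy⟩ := mem_nhds_iff.1 ht
    obtain ⟨z, hz, hzW⟩ := h ⟨t', ho⟩ hy
    exact ⟨z, hts (ht' hz), hzW⟩
  refine ⟨Ultrafilter.of (Filter.comap f (nhds y) ⊓ Filter.principal (W : Set X₀)ᶜ), ?_, fun V hV => ?_⟩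
  · exact Ultrafilter.of_le _ (Filter.mem_inf_of_right (Filter.mem_principal_self _))
  · exact Ultrafilter.of_le _ (Filter.mem_inf_of_left (Filter.preimage_mem_comap (V.2.mem_nhds hV)))

/-- Functions supported on `S`, as a sheaf of sets. -/
noncomputable def funType (Z : TopCat.{u}) (S : Set Z) : TopCat.Sheaf (Type u) Z := TopCat.sheafToTypes Z (Val S)

theorem bijective_of_type [(TopCat.Sheaf.pushforward (Type u) f).Full] [(TopCat.Sheaf.pushforward (Type u) f).EssSurj] :
    Function.Bijective (fun U : Opens X => (Opens.map f).obj U) := by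
  constructor
  · suffices ∀ U V : Opens X, (Opens.map f).obj U = (Opens.map f).obj V → U ≤ V from
      fun U V h => le_antisymm (this U V h) (this V U h.symm)
    intro U V h x hxU
    by_contra hxV
    let F := funType X {x}
    let G := (TopCat.Sheaf.pushforward (Type u) f).objPreimage F
    let e := (TopCat.Sheaf.forget (Type u) X).mapIso ((TopCat.Sheaf.pushforward (Type u) f).objObjPreimageIso F)
    have hle : U ⊓ V ≤ U := inf_le_left
    have heq : (Opens.map f).obj U = (Opens.map f).obj (U ⊓ V) := by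
      ext z
      exact ⟨fun hz => ⟨hz, (h ▸ hz : z ∈ (Opens.map f).obj V)⟩, fun hz => hz.1⟩
    let i : F.obj.obj (op U) ≅ F.obj.obj (op (U ⊓ V)) :=
      (e.app (op U)).symm ≪≫ eqToIso (congrArg (fun W => G.obj.obj (op W)) heq) ≪≫ e.app (op (U ⊓ V))
    let a : ∀ z : U, Val ({x} : Set X) z.1 := fun _ _ => ULift.up 1
    let b : ∀ z : U, Val ({x} : Set X) z.1 := fun _ _ => ULift.up 0
    have hsub : ∀ a b : ∀ z : (U ⊓ V : Opens X), Val ({x} : Set X) z.1, a = b := fun a b => by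
      funext z hz
      exact absurd ((Set.mem_singleton_iff.1 hz.down) ▸ z.2.2) hxV
    have hinj : Function.Injective i.hom := (ConcreteCategory.bijective_of_isIso i.hom).1
    have hab : a = b := hinj (hsub _ _)
    exact absurd (congrFun (congrFun hab ⟨x, hxU⟩) ⟨rfl⟩) (by simp [a, b])
  · intro W
    refine ⟨sSup {V | (Opens.map f).obj V ≤ W}, le_antisymm (fun z hz => ?_) (fun x₀ hx₀ => ?_)⟩
    · obtain ⟨V, hV, hzV⟩ := Opens.mem_sSup.1 (show f z ∈ sSup {V | (Opens.map f).obj V ≤ W} from hz)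
      exact hV hzV
    · by_contra hy
      have h : ∀ V : Opens X, f x₀ ∈ V → ∃ z, f z ∈ V ∧ z ∉ W := fun V hV => by
        by_contra hc
        push Not at hc
        exact hy (Opens.mem_sSup.2 ⟨V, fun z hz => hc z hz, hV⟩)
      obtain ⟨𝒰, hW, h𝒰⟩ := exists_ultrafilter f h
      let G := funType X₀ (W : Set X₀)ᶜ
      let G' := funType X₀ {x₀}
      let val : ∀ V : Opens X, (∀ z : (Opens.map f).obj V, Val (W : Set X₀)ᶜ z.1) →
          ∀ z : (Opens.map f).obj V, Val ({x₀} : Set X₀) z.1 :=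
        fun V a z _ => limVal 𝒰 (ext0 _ a)
      have hnat : ∀ (V V' : Opens X) (hle : V' ≤ V) (a : ∀ z : (Opens.map f).obj V, Val (W : Set X₀)ᶜ z.1)
          (z : (Opens.map f).obj V') (hz : PLift (z.1 ∈ ({x₀} : Set X₀))),
          val V' (fun w => a ⟨w.1, hle w.2⟩) z hz = val V a ⟨z.1, hle z.2⟩ hz := fun V V' hle a z hz => by
        refine limVal_eq 𝒰 ?_
        have h1 : f x₀ ∈ V' := (Set.mem_singleton_iff.1 hz.down) ▸ z.2
        have hA : ∀ᶠ w in (𝒰 : Filter X₀), f w ∈ V' := h𝒰 V' h1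
        have hB : ∀ᶠ w in (𝒰 : Filter X₀), w ∉ W := hW
        filter_upwards [limVal_spec 𝒰 (ext0 _ a), hA, hB] with w hw h2 h3
        rw [ext0_eq _ _ (show w ∈ (Opens.map f).obj V' from h2) h3]
        rwa [ext0_eq _ _ (show w ∈ (Opens.map f).obj V from hle (show f w ∈ V' from h2)) h3] at hw
      let φ' : ((TopCat.Sheaf.pushforward (Type u) f).obj G).obj ⟶ ((TopCat.Sheaf.pushforward (Type u) f).obj G').obj :=
        { app := fun V => ↾(val V.unop)
          naturality := fun V V' i => by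
            ext a
            funext z hz
            exact hnat V.unop V'.unop i.unop.le a z hz }
      let φ : (TopCat.Sheaf.pushforward (Type u) f).obj G ⟶ (TopCat.Sheaf.pushforward (Type u) f).obj G' := ⟨φ'⟩
      obtain ⟨ψ, hψ⟩ := (TopCat.Sheaf.pushforward (Type u) f).map_surjective φ
      let T : Opens X₀ := (Opens.map f).obj ⊤
      let a : ∀ z : T, Val (W : Set X₀)ᶜ z.1 := fun _ _ => ULift.up 1
      let b : ∀ z : T, Val (W : Set X₀)ᶜ z.1 := fun _ _ => ULift.up 0
      have hsubW : ∀ s t : ∀ z : W, Val (W : Set X₀)ᶜ z.1, s = t := fun s t => by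
        funext z hz
        exact absurd z.2 hz.down
      have hWT : W ≤ T := fun _ _ => trivial
      have hres : ∀ s : ∀ z : T, Val (W : Set X₀)ᶜ z.1, ψ.hom.app (op W) (G.obj.map (homOfLE hWT).op s) =
          G'.obj.map (homOfLE hWT).op (ψ.hom.app (op T) s) := fun s =>
        (ConcreteCategory.congr_hom (ψ.hom.naturality (homOfLE hWT).op) s)
      have hval : ∀ s : ∀ z : T, Val (W : Set X₀)ᶜ z.1, ψ.hom.app (op T) s = val ⊤ s := fun s => by
        have := congrArg (fun α : (TopCat.Sheaf.pushforward (Type u) f).obj G ⟶ (TopCat.Sheaf.pushforward (Type u) f).obj G' =>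
          α.hom.app (op ⊤)) hψ
        exact ConcreteCategory.congr_hom this s
      have hab : ψ.hom.app (op W) (G.obj.map (homOfLE hWT).op a) = ψ.hom.app (op W) (G.obj.map (homOfLE hWT).op b) :=
        congrArg _ (hsubW _ _)
      rw [hres a, hres b, hval a, hval b] at hab
      have h2 : limVal 𝒰 (ext0 _ a) = limVal 𝒰 (ext0 _ b) := congrFun (congrFun hab ⟨x₀, hx₀⟩) ⟨rfl⟩
      have hB : ∀ᶠ w in (𝒰 : Filter X₀), w ∉ W := hW
      rw [limVal_eq 𝒰 (c := ULift.up 1) (hB.mono fun w hw => ext0_eq _ _ (Opens.mem_top _ : w ∈ T) hw),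
        limVal_eq 𝒰 (c := ULift.up 0) (hB.mono fun w hw => ext0_eq _ _ (Opens.mem_top _ : w ∈ T) hw)] at h2
      exact absurd h2 (by simp)

/-- Functions supported on `S`, as a presheaf of groups. -/
noncomputable def funAbPre (Z : TopCat.{u}) (S : Set Z) : TopCat.Presheaf AddCommGrpCat.{u} Z where
  obj U := AddCommGrpCat.of (∀ z : U.unop, Val S z.1)
  map {_ V} i := AddCommGrpCat.ofHom (AddMonoidHom.mk' (fun g (z : V.unop) => g (i.unop z)) fun _ _ => rfl)

/-- Functions supported on `S`, as a sheaf of groups. -/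
noncomputable def funAb (Z : TopCat.{u}) (S : Set Z) : TopCat.Sheaf AddCommGrpCat.{u} Z :=
  ⟨funAbPre Z S, (TopCat.Presheaf.isSheaf_iff_isSheaf_comp (CategoryTheory.forget AddCommGrpCat.{u}) (funAbPre Z S)).2
    (TopCat.Presheaf.toTypes_isSheaf Z (Val S))⟩

theorem limVal_add (𝒰 : Ultrafilter X₀) (a b : X₀ → B.{u}) : limVal 𝒰 (a + b) = limVal 𝒰 a + limVal 𝒰 b :=
  limVal_eq 𝒰 (((limVal_spec 𝒰 a).and (limVal_spec 𝒰 b)).mono fun z hz => by simp [hz.1, hz.2])

theorem ext0_add {Z : TopCat.{u}} (S : Set Z) {U : Opens Z} (a b : ∀ z : U, Val S z.1) :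
    ext0 S (a + b) = ext0 S a + ext0 S b := by
  funext z
  by_cases h : z ∈ U ∧ z ∈ S
  · simp [ext0, h]
  · simp [ext0, h]

theorem bijective_of_ab [(TopCat.Sheaf.pushforward AddCommGrpCat.{u} f).Full] [(TopCat.Sheaf.pushforward AddCommGrpCat.{u} f).EssSurj] :
    Function.Bijective (fun U : Opens X => (Opens.map f).obj U) := by
  constructor
  · suffices ∀ U V : Opens X, (Opens.map f).obj U = (Opens.map f).obj V → U ≤ V from
      fun U V h => le_antisymm (this U V h) (this V U h.symm)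
    intro U V h x hxU
    by_contra hxV
    let F := funAb X {x}
    let G := (TopCat.Sheaf.pushforward AddCommGrpCat.{u} f).objPreimage F
    let e := (TopCat.Sheaf.forget AddCommGrpCat.{u} X).mapIso ((TopCat.Sheaf.pushforward AddCommGrpCat.{u} f).objObjPreimageIso F)
    have hle : U ⊓ V ≤ U := inf_le_left
    have heq : (Opens.map f).obj U = (Opens.map f).obj (U ⊓ V) := by
      ext z
      exact ⟨fun hz => ⟨hz, (h ▸ hz : z ∈ (Opens.map f).obj V)⟩, fun hz => hz.1⟩
    let i : F.obj.obj (op U) ≅ F.obj.obj (op (U ⊓ V)) :=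
      (e.app (op U)).symm ≪≫ eqToIso (congrArg (fun W => G.obj.obj (op W)) heq) ≪≫ e.app (op (U ⊓ V))
    let a : ∀ z : U, Val ({x} : Set X) z.1 := fun _ _ => ULift.up 1
    let b : ∀ z : U, Val ({x} : Set X) z.1 := fun _ _ => ULift.up 0
    have hsub : ∀ a b : ∀ z : (U ⊓ V : Opens X), Val ({x} : Set X) z.1, a = b := fun a b => by
      funext z hz
      exact absurd ((Set.mem_singleton_iff.1 hz.down) ▸ z.2.2) hxV
    have hinj : Function.Injective i.hom := (ConcreteCategory.bijective_of_isIso i.hom).1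
    have hab : a = b := hinj (hsub _ _)
    exact absurd (congrFun (congrFun hab ⟨x, hxU⟩) ⟨rfl⟩) (by simp [a, b])
  · intro W
    refine ⟨sSup {V | (Opens.map f).obj V ≤ W}, le_antisymm (fun z hz => ?_) (fun x₀ hx₀ => ?_)⟩
    · obtain ⟨V, hV, hzV⟩ := Opens.mem_sSup.1 (show f z ∈ sSup {V | (Opens.map f).obj V ≤ W} from hz)
      exact hV hzV
    · by_contra hy
      have h : ∀ V : Opens X, f x₀ ∈ V → ∃ z, f z ∈ V ∧ z ∉ W := fun V hV => by
        by_contra hc
        push Not at hc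
        exact hy (Opens.mem_sSup.2 ⟨V, fun z hz => hc z hz, hV⟩)
      obtain ⟨𝒰, hW, h𝒰⟩ := exists_ultrafilter f h
      let G := funAb X₀ (W : Set X₀)ᶜ
      let G' := funAb X₀ {x₀}
      let val : ∀ V : Opens X, (∀ z : (Opens.map f).obj V, Val (W : Set X₀)ᶜ z.1) →
          ∀ z : (Opens.map f).obj V, Val ({x₀} : Set X₀) z.1 :=
        fun V a z _ => limVal 𝒰 (ext0 _ a)
      have hnat : ∀ (V V' : Opens X) (hle : V' ≤ V) (a : ∀ z : (Opens.map f).obj V, Val (W : Set X₀)ᶜ z.1)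
          (z : (Opens.map f).obj V') (hz : PLift (z.1 ∈ ({x₀} : Set X₀))),
          val V' (fun w => a ⟨w.1, hle w.2⟩) z hz = val V a ⟨z.1, hle z.2⟩ hz := fun V V' hle a z hz => by
        refine limVal_eq 𝒰 ?_
        have h1 : f x₀ ∈ V' := (Set.mem_singleton_iff.1 hz.down) ▸ z.2
        have hA : ∀ᶠ w in (𝒰 : Filter X₀), f w ∈ V' := h𝒰 V' h1
        have hB : ∀ᶠ w in (𝒰 : Filter X₀), w ∉ W := hW
        filter_upwards [limVal_spec 𝒰 (ext0 _ a), hA, hB] with w hw h2 h3
        rw [ext0_eq _ _ (show w ∈ (Opens.map f).obj V' from h2) h3]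
        rwa [ext0_eq _ _ (show w ∈ (Opens.map f).obj V from hle (show f w ∈ V' from h2)) h3] at hw
      let φ' : ((TopCat.Sheaf.pushforward AddCommGrpCat.{u} f).obj G).obj ⟶ ((TopCat.Sheaf.pushforward AddCommGrpCat.{u} f).obj G').obj :=
        { app := fun V => AddCommGrpCat.ofHom (AddMonoidHom.mk' (val V.unop) fun a b => by
            funext z hz
            show limVal 𝒰 (ext0 _ (a + b)) = limVal 𝒰 (ext0 _ a) + limVal 𝒰 (ext0 _ b)
            rw [ext0_add, limVal_add])
          naturality := fun V V' i => by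
            ext a
            funext z hz
            exact hnat V.unop V'.unop i.unop.le a z hz }
      let φ : (TopCat.Sheaf.pushforward AddCommGrpCat.{u} f).obj G ⟶ (TopCat.Sheaf.pushforward AddCommGrpCat.{u} f).obj G' := ⟨φ'⟩
      obtain ⟨ψ, hψ⟩ := (TopCat.Sheaf.pushforward AddCommGrpCat.{u} f).map_surjective φ
      let T : Opens X₀ := (Opens.map f).obj ⊤
      let a : ∀ z : T, Val (W : Set X₀)ᶜ z.1 := fun _ _ => ULift.up 1
      let b : ∀ z : T, Val (W : Set X₀)ᶜ z.1 := fun _ _ => ULift.up 0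
      have hsubW : ∀ s t : ∀ z : W, Val (W : Set X₀)ᶜ z.1, s = t := fun s t => by
        funext z hz
        exact absurd z.2 hz.down
      have hWT : W ≤ T := fun _ _ => trivial
      have hres : ∀ s : ∀ z : T, Val (W : Set X₀)ᶜ z.1, ψ.hom.app (op W) (G.obj.map (homOfLE hWT).op s) =
          G'.obj.map (homOfLE hWT).op (ψ.hom.app (op T) s) := fun s =>
        (ConcreteCategory.congr_hom (ψ.hom.naturality (homOfLE hWT).op) s)
      have hval : ∀ s : ∀ z : T, Val (W : Set X₀)ᶜ z.1, ψ.hom.app (op T) s = val ⊤ s := fun s => by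
        have := congrArg (fun α : (TopCat.Sheaf.pushforward AddCommGrpCat.{u} f).obj G ⟶ (TopCat.Sheaf.pushforward AddCommGrpCat.{u} f).obj G' =>
          α.hom.app (op ⊤)) hψ
        exact ConcreteCategory.congr_hom this s
      have hab : ψ.hom.app (op W) (G.obj.map (homOfLE hWT).op a) = ψ.hom.app (op W) (G.obj.map (homOfLE hWT).op b) :=
        congrArg _ (hsubW _ _)
      rw [hres a, hres b, hval a, hval b] at hab
      have h2 : limVal 𝒰 (ext0 _ a) = limVal 𝒰 (ext0 _ b) := congrFun (congrFun hab ⟨x₀, hx₀⟩) ⟨rfl⟩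
      have hB : ∀ᶠ w in (𝒰 : Filter X₀), w ∉ W := hW
      rw [limVal_eq 𝒰 (c := ULift.up 1) (hB.mono fun w hw => ext0_eq _ _ (Opens.mem_top _ : w ∈ T) hw),
        limVal_eq 𝒰 (c := ULift.up 0) (hB.mono fun w hw => ext0_eq _ _ (Opens.mem_top _ : w ∈ T) hw)] at h2
      exact absurd h2 (by simp)

end Groth.Agent.QHomeo5
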